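import Groth.Prelude.Def_DiffOp
import Mathlib.RingTheory.Kaehler.Basic
import Mathlib.Tactic

/-! Differential operators: kernel criterion, composition, uniqueness on monomials. -/

universe u v

namespace Groth.Agent.DiffOp

open Diff16 TensorProduct

variable {A B : Type u} [CommRing A] [CommRing B] [Algebra A B]
variable {M N P : Type v} [AddCommGroup M] [Module A M] [Module B M] [IsScalarTower A B M]
  [AddCommGroup N] [Module A N] [Module B N] [IsScalarTower A B N]
  [AddCommGroup P] [Module A P] [Module B P] [IsScalarTower A B P]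

local notation "ord" => IsDiffOpLE A B

theorem commutator_apply (D : M →ₗ[A] N) (b : B) (m : M) :
    commutator A B M N D b m = D (b • m) - b • D m := rfl

theorem ord_zero_iff {D : M →ₗ[A] N} : ord M N 0 D ↔ ∀ b : B, commutator A B M N D b = 0 := by
  simp only [LinearMap.ext_iff, commutator_apply, LinearMap.zero_apply, sub_eq_zero]
  rfl

theorem ord_succ_iff {n : ℕ} {D : M →ₗ[A] N} :
    ord M N (n + 1) D ↔ ∀ b : B, ord M N n (commutator A B M N D b) := Iff.rfl

theorem commutator_zero (b : B) : commutator A B M N 0 b = 0 := by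
  ext m; simp [commutator_apply]

theorem commutator_add (D D' : M →ₗ[A] N) (b : B) :
    commutator A B M N (D + D') b = commutator A B M N D b + commutator A B M N D' b := by
  ext m; simp only [commutator_apply, LinearMap.add_apply, smul_add]; abel

theorem commutator_sub (D D' : M →ₗ[A] N) (b : B) :
    commutator A B M N (D - D') b = commutator A B M N D b - commutator A B M N D' b := by
  ext m; simp only [commutator_apply, LinearMap.sub_apply, smul_sub]; abel

theorem commutator_smul (c : B) (D : M →ₗ[A] N) (b : B) :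
    commutator A B M N (c • D) b = c • commutator A B M N D b := by
  ext m; simp only [commutator_apply, LinearMap.smul_apply, smul_sub, smul_comm c b]

theorem commutator_comm (D : M →ₗ[A] N) (b c : B) :
    commutator A B M N (commutator A B M N D b) c = commutator A B M N (commutator A B M N D c) b := by
  ext m; simp only [commutator_apply, smul_sub, smul_comm b c]; abel

theorem commutator_mul (D : M →ₗ[A] N) (b c : B) (m : M) :
    commutator A B M N D (b * c) m = commutator A B M N D b (c • m) + b • commutator A B M N D c m := by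
  simp only [commutator_apply, smul_sub, ← smul_smul]; abel

theorem ord_zero (n : ℕ) : ord M N n 0 := by
  induction n with
  | zero => exact fun b m => by simp
  | succ n ih => intro b; rw [commutator_zero]; exact ih

theorem ord_add {n : ℕ} {D D' : M →ₗ[A] N} (h : ord M N n D) (h' : ord M N n D') : ord M N n (D + D') := by
  induction n generalizing D D' with
  | zero => exact fun b m => by simp [h b m, h' b m, smul_add]
  | succ n ih => intro b; rw [commutator_add]; exact ih (h b) (h' b)

theorem ord_sub {n : ℕ} {D D' : M →ₗ[A] N} (h : ord M N n D) (h' : ord M N n D') : ord M N n (D - D') := by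
  induction n generalizing D D' with
  | zero => exact fun b m => by simp [h b m, h' b m, smul_sub]
  | succ n ih => intro b; rw [commutator_sub]; exact ih (h b) (h' b)

theorem ord_smul {n : ℕ} (c : B) {D : M →ₗ[A] N} (h : ord M N n D) : ord M N n (c • D) := by
  induction n generalizing D with
  | zero => exact fun b m => by simp [h b m, smul_comm c b]
  | succ n ih => intro b; rw [commutator_smul]; exact ih (h b)

theorem ord_sum {ι : Type*} {n : ℕ} (s : Finset ι) {D : ι → (M →ₗ[A] N)} (h : ∀ i ∈ s, ord M N n (D i)) :
    ord M N n (∑ i ∈ s, D i) := by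
  classical
  induction s using Finset.induction_on with
  | empty => simpa using ord_zero n
  | insert a s ha ih =>
    rw [Finset.sum_insert ha]
    exact ord_add (h a (by simp)) (ih fun i hi => h i (by simp [hi]))

theorem ord_step {n : ℕ} {D : M →ₗ[A] N} (h : ord M N n D) : ord M N (n + 1) D := by
  induction n generalizing D with
  | zero => intro b; rw [ord_zero_iff.1 h b]; exact ord_zero 0
  | succ n ih => exact fun b => ih (h b)

theorem ord_mono {n m : ℕ} (hnm : n ≤ m) {D : M →ₗ[A] N} (h : ord M N n D) : ord M N m D := by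
  induction m, hnm using Nat.le_induction with
  | base => exact h
  | succ m _ ih => exact ord_step ih

theorem commutator_comp (D : M →ₗ[A] N) (D' : N →ₗ[A] P) (b : B) :
    commutator A B M P (D' ∘ₗ D) b =
      commutator A B N P D' b ∘ₗ D + D' ∘ₗ commutator A B M N D b := by
  ext m
  simp only [commutator_apply, LinearMap.comp_apply, LinearMap.add_apply, map_sub]
  abel

theorem ord_comp {n n' : ℕ} {D : M →ₗ[A] N} {D' : N →ₗ[A] P} (h : ord M N n D) (h' : ord N P n' D') :
    ord M P (n + n') (D' ∘ₗ D) := by
  obtain ⟨k, hk⟩ : ∃ k, k = n + n' := ⟨_, rfl⟩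
  induction k generalizing n n' D D' with
  | zero =>
    obtain ⟨rfl, rfl⟩ : n = 0 ∧ n' = 0 := by omega
    intro b m
    simp [h b m, h' b (D m)]
  | succ k ih =>
    rw [← hk]
    intro b
    rw [commutator_comp]
    refine ord_add ?_ ?_
    · cases n' with
      | zero => rw [ord_zero_iff.1 h' b]; simpa using ord_zero _
      | succ n' => exact ord_mono (by omega) (ih h (h' b) (by omega))
    · cases n with
      | zero => rw [ord_zero_iff.1 h b]; simpa using ord_zero _
      | succ n => exact ord_mono (by omega) (ih (h b) h' (by omega))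

/-! ### The action of `B ⊗[A] B` -/

/-- `b ⊗ c` acts on `D` as `m ↦ b • D (c • m)`. -/
noncomputable def phi (D : M →ₗ[A] N) : B ⊗[A] B →ₗ[A] (M →ₗ[A] N) :=
  TensorProduct.lift (LinearMap.mk₂ A
    (fun b c => (LinearMap.lsmul B N b).restrictScalars A ∘ₗ D ∘ₗ (LinearMap.lsmul B M c).restrictScalars A)
    (fun b b' c => by ext m; simp [add_smul])
    (fun a b c => by ext m; simp [smul_assoc])
    (fun b c c' => by ext m; simp [add_smul, smul_add])
    (fun a b c => by ext m; simp [smul_assoc, smul_algebra_smul_comm a b]))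

@[simp] theorem phi_tmul (D : M →ₗ[A] N) (b c : B) (m : M) : phi D (b ⊗ₜ[A] c) m = b • D (c • m) := rfl

theorem phi_phi (D : M →ₗ[A] N) (x y : B ⊗[A] B) : phi (phi D x) y = phi D (y * x) := by
  induction y using TensorProduct.induction_on with
  | zero => rw [zero_mul, map_zero, map_zero]
  | add y y' hy hy' => rw [add_mul, map_add, map_add, hy, hy']
  | tmul b c =>
    induction x using TensorProduct.induction_on with
    | zero => ext m; simp
    | add x x' hx hx' =>
      ext m
      have h1 := LinearMap.congr_fun hx m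
      have h2 := LinearMap.congr_fun hx' m
      rw [mul_add, map_add, map_add, LinearMap.add_apply, ← h1, ← h2]
      simp [smul_add]
    | tmul b' c' =>
      ext m
      rw [Algebra.TensorProduct.tmul_mul_tmul, phi_tmul, phi_tmul, phi_tmul, ← smul_smul, mul_comm c c', mul_smul]

/-- `1 ⊗ g - g ⊗ 1`. -/
noncomputable def zeta (A : Type u) {B : Type u} [CommRing A] [CommRing B] [Algebra A B] (g : B) : B ⊗[A] B :=
  (1 : B) ⊗ₜ[A] g - g ⊗ₜ[A] (1 : B)

theorem zeta_mem (g : B) : zeta A g ∈ KaehlerDifferential.ideal A B :=
  KaehlerDifferential.one_smul_sub_smul_one_mem_ideal A g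

theorem commutator_eq_phi (D : M →ₗ[A] N) (g : B) : commutator A B M N D g = phi D (zeta A g) := by
  ext m; simp [zeta, commutator_apply]

/-- The annihilator of `D`. -/
noncomputable def ann (D : M →ₗ[A] N) : Ideal (B ⊗[A] B) where
  carrier := {x | phi D x = 0}
  add_mem' := fun {x y} hx hy => by simp only [Set.mem_ofPred_eq] at *; rw [map_add, hx, hy, add_zero]
  zero_mem' := by simp
  smul_mem' := fun c x hx => by
    simp only [Set.mem_ofPred_eq, smul_eq_mul] at *
    rw [← phi_phi, hx]
    ext m
    induction c using TensorProduct.induction_on with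
    | zero => simp
    | tmul b c => simp
    | add c c' h h' => rw [map_add, LinearMap.add_apply, h, h', LinearMap.zero_apply, add_zero]

theorem mem_ann {D : M →ₗ[A] N} {x : B ⊗[A] B} : x ∈ ann D ↔ phi D x = 0 := Iff.rfl

theorem mul_zeta_mem_ann {D : M →ₗ[A] N} {x : B ⊗[A] B} {g : B} :
    x ∈ ann (commutator A B M N D g) ↔ x * zeta A g ∈ ann D := by
  rw [mem_ann, mem_ann, commutator_eq_phi, phi_phi]

theorem ideal_eq_span :
    KaehlerDifferential.ideal A B = Ideal.span (Set.range fun g : B => zeta A g) :=
  (KaehlerDifferential.span_range_eq_ideal A B).symm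

theorem ord_iff_le_ann {n : ℕ} {D : M →ₗ[A] N} :
    ord M N n D ↔ KaehlerDifferential.ideal A B ^ (n + 1) ≤ ann D := by
  induction n generalizing D with
  | zero =>
    rw [zero_add, pow_one, ideal_eq_span, Ideal.span_le, Set.range_subset_iff, ord_zero_iff]
    simp [mem_ann, commutator_eq_phi]
  | succ n ih =>
    rw [ord_succ_iff, pow_succ' _ (n + 1)]
    conv_rhs => rw [ideal_eq_span, Ideal.mul_le]
    simp only [ih]
    constructor
    · intro h r hr s hs
      induction hr using Submodule.span_induction with
      | mem r hr =>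
        obtain ⟨g, rfl⟩ := hr
        rw [mul_comm, ← mul_zeta_mem_ann]
        exact h g (by rw [ideal_eq_span]; exact hs)
      | zero => simp
      | add r r' _ _ h h' => rw [add_mul]; exact add_mem h h'
      | smul c r _ h => rw [smul_eq_mul, mul_assoc]; exact Ideal.mul_mem_left _ _ h
    · intro h g s hs
      rw [mul_zeta_mem_ann, mul_comm]
      exact h _ (Ideal.subset_span ⟨g, rfl⟩) _ (by rw [← ideal_eq_span]; exact hs)

theorem zeta_mul (g h : B) :
    zeta A (g * h) = ((1 : B) ⊗ₜ[A] g) * zeta A h + (h ⊗ₜ[A] (1 : B)) * zeta A g := by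
  simp only [zeta, mul_sub, Algebra.TensorProduct.tmul_mul_tmul, one_mul, mul_one]
  rw [mul_comm h g]; abel

theorem zeta_algebraMap (a : A) : zeta A (algebraMap A B a) = 0 := by
  rw [zeta, Algebra.algebraMap_eq_smul_one, tmul_smul, smul_tmul', sub_self]

theorem zeta_add (g h : B) : zeta A (g + h) = zeta A g + zeta A h := by
  simp only [zeta, tmul_add, add_tmul]; abel

theorem zeta_mem_of_adjoin {s : Set B} (J : Ideal (B ⊗[A] B)) (h : ∀ g ∈ s, zeta A g ∈ J) {g : B}
    (hg : g ∈ Algebra.adjoin A s) : zeta A g ∈ J := by
  induction hg using Algebra.adjoin_induction with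
  | mem g hg => exact h g hg
  | algebraMap a => rw [zeta_algebraMap]; exact J.zero_mem
  | add g g' _ _ h h' => rw [zeta_add]; exact add_mem h h'
  | mul g g' _ _ h h' => rw [zeta_mul]; exact add_mem (J.mul_mem_left _ h') (J.mul_mem_left _ h)

theorem ideal_eq_span_of_adjoin {s : Set B} (hs : Algebra.adjoin A s = ⊤) :
    KaehlerDifferential.ideal A B = Ideal.span (zeta A '' s) := by
  refine le_antisymm ?_ ?_
  · rw [ideal_eq_span, Ideal.span_le]
    rintro _ ⟨g, rfl⟩
    exact zeta_mem_of_adjoin (Ideal.span (zeta A '' s)) (fun g hg => Ideal.subset_span ⟨g, hg, rfl⟩) (hs ▸ Algebra.mem_top)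
  · rw [Ideal.span_le]
    rintro _ ⟨g, -, rfl⟩
    exact zeta_mem g

theorem ord_succ_of_generators {s : Set B} (hs : Algebra.adjoin A s = ⊤) {n : ℕ} {D : M →ₗ[A] N}
    (hD : ∀ g ∈ s, ord M N n (commutator A B M N D g)) : ord M N (n + 1) D := by
  rw [ord_iff_le_ann, pow_succ' _ (n + 1)]
  conv_lhs => arg 1; rw [ideal_eq_span_of_adjoin hs]
  rw [Ideal.mul_le]
  intro r hr t ht
  induction hr using Submodule.span_induction with
  | mem r hr =>
    obtain ⟨g, hg, rfl⟩ := hr
    rw [mul_comm, ← mul_zeta_mem_ann]
    exact ord_iff_le_ann.1 (hD g hg) ht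
  | zero => simp
  | add r r' _ _ h h' => rw [add_mul]; exact add_mem h h'
  | smul c r _ h => rw [smul_eq_mul, mul_assoc]; exact Ideal.mul_mem_left _ _ h

theorem ord_iff_prod {n : ℕ} {D : M →ₗ[A] N} :
    ord M N n D ↔ ∀ b : Fin (n + 1) → B, phi D (∏ i, zeta A (b i)) = 0 := by
  induction n generalizing D with
  | zero =>
    rw [ord_zero_iff]
    simp only [commutator_eq_phi]
    exact ⟨fun h b => by rw [Fin.prod_univ_one]; exact h (b 0),
      fun h g => by simpa using h fun _ => g⟩
  | succ n ih =>
    rw [ord_succ_iff]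
    simp only [ih, commutator_eq_phi, phi_phi]
    constructor
    · intro h b
      rw [Fin.prod_univ_succ, mul_comm]
      exact h (b 0) fun i => b i.succ
    · intro h g b
      have := h (Fin.cons g b)
      rwa [Fin.prod_univ_succ, Fin.cons_zero, mul_comm,
        Finset.prod_congr rfl (fun i _ => by rw [Fin.cons_succ])] at this

/-- The alternating sum attached to `D`, `b` and `m`. -/
theorem phi_prod_zeta (D : M →ₗ[A] N) {ι : Type*} [Fintype ι] [DecidableEq ι] (b : ι → B) (t : M) :
    phi D (∏ i, zeta A (b i)) t =
      ∑ H : Finset ι, ((-1 : ℤ) ^ H.card) • ((∏ i ∈ H, b i) • D ((∏ i ∈ Hᶜ, b i) • t)) := by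
  have hL : ∀ (s : Finset ι), ∏ i ∈ s, (-(b i ⊗ₜ[A] (1 : B))) =
      ((-1 : ℤ) ^ s.card) • ((∏ i ∈ s, b i) ⊗ₜ[A] (1 : B)) := by
    intro s
    induction s using Finset.induction_on with
    | empty => simp [Algebra.TensorProduct.one_def]
    | insert a s ha ih =>
      rw [Finset.prod_insert ha, ih, Finset.prod_insert ha, Finset.card_insert_of_notMem ha, pow_succ,
        mul_smul_comm, neg_mul, Algebra.TensorProduct.tmul_mul_tmul, one_mul, smul_neg, mul_neg_one,
        neg_smul]
  have hR : ∀ (s : Finset ι), ∏ i ∈ s, ((1 : B) ⊗ₜ[A] b i) = (1 : B) ⊗ₜ[A] (∏ i ∈ s, b i) := by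
    intro s
    induction s using Finset.induction_on with
    | empty => simp [Algebra.TensorProduct.one_def]
    | insert a s ha ih =>
      rw [Finset.prod_insert ha, ih, Finset.prod_insert ha, Algebra.TensorProduct.tmul_mul_tmul, one_mul]
  have : ∏ i, zeta A (b i) = ∑ H : Finset ι,
      ((-1 : ℤ) ^ H.card) • ((∏ i ∈ H, b i) ⊗ₜ[A] (∏ i ∈ Hᶜ, b i)) := by
    rw [Finset.prod_congr rfl (fun i _ => show zeta A (b i) = -(b i ⊗ₜ[A] (1 : B)) + (1 : B) ⊗ₜ[A] b i by
      rw [zeta]; abel), Finset.prod_add, Finset.powerset_univ]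
    refine Finset.sum_congr rfl fun H _ => ?_
    rw [hL, hR, ← Finset.compl_eq_univ_sdiff, smul_mul_assoc, Algebra.TensorProduct.tmul_mul_tmul, mul_one, one_mul]
  rw [this, map_sum, LinearMap.sum_apply]
  exact Finset.sum_congr rfl fun H _ => by rw [map_zsmul, LinearMap.smul_apply, phi_tmul]

theorem linearize_tmul (D : M →ₗ[A] N) (b : B) (m : M) : linearize A B M N D (b ⊗ₜ[A] m) = b • D m := rfl

theorem phi_apply_eq_linearize {N : Type u} [AddCommGroup N] [Module A N] [Module B N] [IsScalarTower A B N]
    (D : B →ₗ[A] N) (x : B ⊗[A] B) (t : B) :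
    phi D x t = linearize A B B N D (x * ((1 : B) ⊗ₜ[A] t)) := by
  induction x using TensorProduct.induction_on with
  | zero => simp
  | add x y hx hy => rw [map_add, LinearMap.add_apply, hx, hy, add_mul, map_add]
  | tmul b c =>
    rw [phi_tmul, Algebra.TensorProduct.tmul_mul_tmul, mul_one, linearize_tmul, smul_eq_mul]

/-! ### Generators of differentials -/

section Gen

variable {ι : Type*} {z : ι → B}

theorem derivation_eq_zero {N : Type v} [AddCommGroup N] [Module A N] [Module B N] [IsScalarTower A B N]
    (hz : Submodule.span B (Set.range fun i => KaehlerDifferential.D A B (z i)) = ⊤)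
    (δ : Derivation A B N) (h : ∀ i, δ (z i) = 0) : δ = 0 := by
  ext b
  have : δ.liftKaehlerDifferential = 0 := by
    apply LinearMap.ext_on_range hz
    intro i
    rw [Derivation.liftKaehlerDifferential_comp_D, h, LinearMap.zero_apply]
  rw [← δ.liftKaehlerDifferential_comp_D b, this]; simp

variable (hz : Submodule.span B (Set.range fun i => KaehlerDifferential.D A B (z i)) = ⊤)
include hz

theorem ord_zero_of_gen {k : ℕ} {D : M →ₗ[A] N} (hD : ord M N k D)
    (h : ∀ i, commutator A B M N D (z i) = 0) : ord M N 0 D := by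
  induction k generalizing D with
  | zero => exact hD
  | succ k ih =>
    have hlin : ∀ b, ord M N 0 (commutator A B M N D b) := fun b =>
      ih (hD b) fun i => by rw [commutator_comm, h, commutator_zero]
    rw [ord_zero_iff]
    intro b
    ext m
    let δ : Derivation A B N := Derivation.mk'
      { toFun := fun c => commutator A B M N D c m
        map_add' := fun c c' => by simp only [commutator_apply, add_smul, map_add]; abel
        map_smul' := fun a c => by
          simp only [commutator_apply, smul_assoc, map_smul, smul_sub, RingHom.id_apply] }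
      fun c c' => by
        change commutator A B M N D (c * c') m = c • commutator A B M N D c' m + c' • commutator A B M N D c m
        rw [commutator_mul, hlin c c' m, add_comm]
    have hδ := derivation_eq_zero hz δ fun i => by
      change commutator A B M N D (z i) m = 0
      rw [h, LinearMap.zero_apply]
    exact congrArg (fun d : Derivation A B N => d b) hδ

theorem ord_succ_of_gen {j k : ℕ} {D : M →ₗ[A] N} (hD : ord M N k D)
    (h : ∀ i, ord M N j (commutator A B M N D (z i))) : ord M N (j + 1) D := by
  induction j generalizing D with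
  | zero =>
    intro b
    refine ord_zero_of_gen hz (ord_step hD b) fun i => ?_
    rw [commutator_comm]
    exact ord_zero_iff.1 (h i) b
  | succ j ih =>
    intro b
    refine ih (ord_step hD b) fun i => ?_
    rw [commutator_comm]
    exact h i b

theorem eq_zero_of_monomials [Fintype ι] {N : Type u} [AddCommGroup N] [Module A N] [Module B N]
    [IsScalarTower A B N] {m : ℕ} {D : B →ₗ[A] N} (hD : ord B N m D)
    (h : ∀ q : ι → ℕ, (∑ i, q i) ≤ m → D (∏ i, z i ^ q i) = 0) : D = 0 := by
  classical
  have key : ∀ {D : B →ₗ[A] N}, ord B N 0 D → D 1 = 0 → D = 0 := by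
    intro D h0 h1
    ext b
    have := h0 b 1
    rw [smul_eq_mul, mul_one, h1, smul_zero] at this
    exact this
  induction m generalizing D with
  | zero => exact key hD (by simpa using h 0 (by simp))
  | succ m ih =>
    have hc : ∀ i, commutator A B B N D (z i) = 0 := fun i => ih (hD (z i)) fun q hq => by
      rw [commutator_apply, h q (by omega), smul_zero, sub_zero]
      have e : z i • ∏ j, z j ^ q j = ∏ j, z j ^ ((q + Pi.single i 1 : ι → ℕ) j) := by
        simp only [Pi.add_apply, pow_add, Finset.prod_mul_distrib, smul_eq_mul]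
        rw [Fintype.prod_eq_single i (f := fun j => z j ^ (Pi.single i 1 : ι → ℕ) j)
          (fun j hj => by rw [Pi.single_eq_of_ne hj, pow_zero]), Pi.single_eq_same, pow_one, mul_comm]
      rw [e]
      refine h _ ?_
      simp only [Pi.add_apply, Finset.sum_add_distrib]
      rw [Fintype.sum_eq_single i (f := fun j => (Pi.single i 1 : ι → ℕ) j)
        (fun j hj => Pi.single_eq_of_ne hj 1), Pi.single_eq_same]
      omega
    exact key (ord_zero_of_gen hz hD hc) (by simpa using h 0 (by simp))

theorem eq_of_monomials [Fintype ι] {N : Type u} [AddCommGroup N] [Module A N] [Module B N]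
    [IsScalarTower A B N] {m : ℕ} {D D' : B →ₗ[A] N} (hD : ord B N m D) (hD' : ord B N m D')
    (h : ∀ q : ι → ℕ, (∑ i, q i) ≤ m → D (∏ i, z i ^ q i) = D' (∏ i, z i ^ q i)) : D = D' :=
  sub_eq_zero.1 (eq_zero_of_monomials hz (ord_sub hD hD') fun q hq => by
    rw [LinearMap.sub_apply, h q hq, sub_self])

end Gen

end Groth.Agent.DiffOp
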