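import Groth.Agent.DiffOp.Basic
import Groth.Agent.PParts.Change
import Mathlib.RingTheory.Etale.Basic
import Mathlib.RingTheory.TensorProduct.Basic

/-! Extension of differential operators along formally étale algebras. -/

universe u

namespace Groth.Agent.DiffOp

open TensorProduct

theorem exists_ringHom_lift {S S' T : Type u} [CommRing S] [CommRing S'] [CommRing T] [Algebra S S']
    [Algebra.FormallyEtale S S'] (f : S →+* T) (J : Ideal T) (hJ : IsNilpotent J) (g : S' →+* T ⧸ J)
    (h : ∀ s, g (algebraMap S S' s) = Ideal.Quotient.mk J (f s)) :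
    ∃ σ : S' →+* T, (∀ s, σ (algebraMap S S' s) = f s) ∧ ∀ x, Ideal.Quotient.mk J (σ x) = g x := by
  letI : Algebra S T := f.toAlgebra
  let g' : S' →ₐ[S] T ⧸ J := { g with commutes' := h }
  obtain ⟨σ, hσ⟩ := Algebra.FormallySmooth.exists_lift J hJ g'
  exact ⟨σ.toRingHom, fun s => σ.commutes s, fun x => AlgHom.congr_fun hσ x⟩

theorem ringHom_lift_unique {S S' T : Type u} [CommRing S] [CommRing S'] [CommRing T] [Algebra S S']
    [Algebra.FormallyUnramified S S'] (J : Ideal T) (hJ : IsNilpotent J) (g₁ g₂ : S' →+* T)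
    (h : ∀ s, g₁ (algebraMap S S' s) = g₂ (algebraMap S S' s))
    (hg : ∀ x, Ideal.Quotient.mk J (g₁ x) = Ideal.Quotient.mk J (g₂ x)) : g₁ = g₂ := by
  letI : Algebra S T := (g₂.comp (algebraMap S S')).toAlgebra
  let a₁ : S' →ₐ[S] T := { g₁ with commutes' := h }
  let a₂ : S' →ₐ[S] T := { g₂ with commutes' := fun _ => rfl }
  have := Algebra.FormallyUnramified.ext J hJ (g₁ := a₁) (g₂ := a₂) hg
  exact RingHom.ext fun x => AlgHom.congr_fun this x

/-- A lift of the identity of `S'` to `S' ⊗ P` along a nilpotent thickening `P` of `S`. -/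
theorem exists_sigma_aux {S S' P : Type u} [CommRing S] [CommRing S'] [CommRing P] [Algebra S S'] [Algebra S P]
    [Algebra.FormallyEtale S S'] (f : S →+* P) (K : Ideal P) {n : ℕ} (hK : K ^ n = ⊥)
    (hf : ∀ s, f s - algebraMap S P s ∈ K) :
    ∃ σ : S' →+* S' ⊗[S] P, (∀ s, σ (algebraMap S S' s) = (1 : S') ⊗ₜ[S] f s) ∧
      ∀ x, σ x - x ⊗ₜ[S] (1 : P) ∈ K.map (Algebra.TensorProduct.includeRight : P →ₐ[S] S' ⊗[S] P).toRingHom := by
  set ir : P →+* S' ⊗[S] P := (Algebra.TensorProduct.includeRight : P →ₐ[S] S' ⊗[S] P).toRingHom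
  have hnil : IsNilpotent (K.map ir) := ⟨n, PParts.map_pow_eq_bot ir hK⟩
  let il : S' →+* S' ⊗[S] P := Algebra.TensorProduct.includeLeftRingHom
  obtain ⟨σ, h1, h2⟩ := exists_ringHom_lift (ir.comp f) _ hnil
    ((Ideal.Quotient.mk (K.map ir)).comp il) (fun s => by
      refine Ideal.Quotient.eq.2 ?_
      have h := Ideal.mem_map_of_mem ir (hf s)
      have e : il (algebraMap S S' s) - ir (f s) = -(ir (f s - algebraMap S P s)) := by
        rw [map_sub, neg_sub]
        refine congrArg₂ (· - ·) ?_ rfl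
        change algebraMap S S' s ⊗ₜ[S] (1 : P) = (1 : S') ⊗ₜ[S] algebraMap S P s
        rw [Algebra.algebraMap_eq_smul_one, smul_tmul, ← Algebra.algebraMap_eq_smul_one]
      exact e ▸ neg_mem h)
  exact ⟨σ, h1, fun x => Ideal.Quotient.eq.1 (h2 x)⟩

theorem apply_eq_zero_of_mem_pow {S S' P X : Type u} [CommRing S] [CommRing S'] [CommRing P] [CommRing X]
    [Algebra S S'] [Algebra S P] (ψ : X →+* S' ⊗[S] P) (K : Ideal P) {n : ℕ} (hK : K ^ n = ⊥) {I : Ideal X}
    (hI : I ≤ (K.map (Algebra.TensorProduct.includeRight : P →ₐ[S] S' ⊗[S] P).toRingHom).comap ψ)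
    {x : X} (hx : x ∈ I ^ n) : ψ x = 0 :=
  PParts.eq_zero_of_mem_pow ψ hI (PParts.map_pow_eq_bot _ hK) hx

section Etale

variable (k : ℕ) (R S S' : Type u) [CommRing R] [CommRing S] [CommRing S'] [Algebra R S] [Algebra R S']
  [Algebra S S'] [IsScalarTower R S S'] [Algebra.FormallyEtale S S']

theorem mk_sub_mem_augIdeal (b : S) :
    PP16.dn k R S b - algebraMap S (PP16.P k R S) b ∈ PP16.augIdeal k R S := by
  change Ideal.Quotient.mk _ ((1 : S) ⊗ₜ[R] b) - Ideal.Quotient.mk _ (b ⊗ₜ[R] (1 : S)) ∈ _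
  rw [← map_sub]
  exact Ideal.mem_map_of_mem _ (zeta_mem b)

/-- A `d`-semilinear lift of the identity of `S'` to `S' ⊗ P^k`. -/
theorem exists_sigma :
    ∃ σ : S' →+* S' ⊗[S] PP16.P k R S,
      (∀ s, σ (algebraMap S S' s) = (1 : S') ⊗ₜ[S] PP16.dn k R S s) ∧
        ∀ x, σ x - x ⊗ₜ[S] (1 : PP16.P k R S) ∈
          (PP16.augIdeal k R S).map (Algebra.TensorProduct.includeRight : PP16.P k R S →ₐ[S] S' ⊗[S] PP16.P k R S).toRingHom := by
  exact exists_sigma_aux (PP16.dn k R S).toRingHom _ (PParts.augIdeal_pow k R S) (mk_sub_mem_augIdeal k R S)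

variable {M : Type u} [AddCommGroup M] [Module S M] [Module R M] [IsScalarTower R S M]
  {N' : Type u} [AddCommGroup N'] [Module R N'] [Module S' N'] [IsScalarTower R S' N']
  [Module S N'] [IsScalarTower S S' N'] [IsScalarTower R S N']

/-- Two operators of bounded order which agree on `1 ⊗ M` are equal. -/
theorem eq_of_comp_mk (E₁ E₂ : S' ⊗[S] M →ₗ[R] N')
    (h₁ : Diff16.IsDiffOpLE R S' (S' ⊗[S] M) N' k E₁) (h₂ : Diff16.IsDiffOpLE R S' (S' ⊗[S] M) N' k E₂)
    (h : ∀ m : M, E₁ ((1 : S') ⊗ₜ[S] m) = E₂ ((1 : S') ⊗ₜ[S] m)) : E₁ = E₂ := by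
  have hann : ∀ x ∈ KaehlerDifferential.ideal R S' ^ (k + 1), phi (E₁ - E₂) x = 0 :=
    fun x hx => ord_iff_le_ann.1 (ord_sub h₁ h₂) hx
  obtain ⟨σ, hσ, hσJ⟩ := exists_sigma k R S S'
  let mb : PP16.P k R S →ₐ[S] PP16.P k R S' :=
    { (PP16.map k R S R S').toRingHom with
      commutes' := fun b => by
        change PP16.map k R S R S' (algebraMap S _ b) = _
        rw [PP16.map_algebraMap, ← IsScalarTower.algebraMap_apply S S'] }
  let fwd : S' ⊗[S] PP16.P k R S →ₐ[S'] PP16.P k R S' :=
    Algebra.TensorProduct.lift (Algebra.ofId S' _) mb fun x y => Commute.all (Algebra.ofId S' (PP16.P k R S') x) (mb y)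
  have hfσ : fwd.toRingHom.comp σ = (PP16.dn k R S').toRingHom := by
    refine ringHom_lift_unique (S := S) (PP16.augIdeal k R S') ⟨k + 1, PParts.augIdeal_pow k R S'⟩ _ _ (fun s => ?_)
      fun x => Ideal.Quotient.eq.2 ?_
    · change fwd (σ (algebraMap S S' s)) = PP16.dn k R S' (algebraMap S S' s)
      rw [hσ]
      simp only [fwd, Algebra.TensorProduct.lift_tmul, map_one, one_mul]
      exact PP16.map_dn k R S R S' s
    · have h1 : fwd (σ x - x ⊗ₜ[S] (1 : PP16.P k R S)) ∈ PP16.augIdeal k R S' := by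
        have hle : (PP16.augIdeal k R S).map (Algebra.TensorProduct.includeRight : PP16.P k R S →ₐ[S] S' ⊗[S] PP16.P k R S).toRingHom
            ≤ (PP16.augIdeal k R S').comap fwd.toRingHom := by
          rw [Ideal.map_le_iff_le_comap, PP16.augIdeal, Ideal.map_le_iff_le_comap]
          intro y hy
          change fwd ((1 : S') ⊗ₜ[S] (Ideal.Quotient.mk _ y)) ∈ PP16.augIdeal k R S'
          simp only [fwd, Algebra.TensorProduct.lift_tmul, map_one, one_mul]
          exact Ideal.mem_map_of_mem _ (PP16.ideal_map_tensorMap_le R S R S' (Ideal.mem_map_of_mem _ hy))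
        exact hle (hσJ x)
      have h2 := sub_mem h1 (mk_sub_mem_augIdeal k R S' x)
      rw [map_sub, show fwd (x ⊗ₜ[S] (1 : PP16.P k R S)) = algebraMap S' (PP16.P k R S') x by
        simp [fwd], sub_sub_sub_cancel_right] at h2
      exact h2
  have key : ∀ (q : S' ⊗[S] PP16.P k R S) (x : S' ⊗[R] S'), Ideal.Quotient.mk (KaehlerDifferential.ideal R S' ^ (k + 1)) x = fwd q →
      ∀ m : M, phi (E₁ - E₂) x ((1 : S') ⊗ₜ[S] m) = 0 := by
    intro q
    induction q using TensorProduct.induction_on with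
    | zero =>
      intro x hx m
      rw [hann x (Ideal.Quotient.eq_zero_iff_mem.1 (hx.trans (map_zero _))), LinearMap.zero_apply]
    | tmul a p =>
      intro x hx m
      obtain ⟨y, rfl⟩ := Ideal.Quotient.mk_surjective p
      have hy : ∀ y : S ⊗[R] S, phi (E₁ - E₂) ((a ⊗ₜ[R] (1 : S')) * PP16.tensorMap R S R S' y)
          ((1 : S') ⊗ₜ[S] m) = 0 := by
        intro y
        induction y using TensorProduct.induction_on with
        | zero => simp
        | tmul b c =>
          rw [PP16.tensorMap_tmul, Algebra.TensorProduct.tmul_mul_tmul, one_mul, phi_tmul, LinearMap.sub_apply,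
            TensorProduct.smul_tmul', smul_eq_mul, mul_one,
            show algebraMap S S' c ⊗ₜ[S] m = (1 : S') ⊗ₜ[S] (c • m) by
              rw [Algebra.algebraMap_eq_smul_one, smul_tmul], h, sub_self, smul_zero]
        | add y z hy hz => rw [map_add, mul_add, map_add, LinearMap.add_apply, hy, hz, add_zero]
      have h1 : Ideal.Quotient.mk _ x = Ideal.Quotient.mk (KaehlerDifferential.ideal R S' ^ (k + 1))
          ((a ⊗ₜ[R] (1 : S')) * PP16.tensorMap R S R S' y) := by
        rw [hx, map_mul]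
        simp only [fwd, Algebra.TensorProduct.lift_tmul]
        rfl
      have h2 := LinearMap.congr_fun (hann _ (Ideal.Quotient.eq.1 h1)) ((1 : S') ⊗ₜ[S] m)
      rw [map_sub, LinearMap.sub_apply, hy, sub_zero, LinearMap.zero_apply] at h2
      exact h2
    | add q q' hq hq' =>
      intro x hx m
      obtain ⟨y, hy⟩ := Ideal.Quotient.mk_surjective (fwd q)
      obtain ⟨y', hy'⟩ := Ideal.Quotient.mk_surjective (fwd q')
      have h1 : Ideal.Quotient.mk (KaehlerDifferential.ideal R S' ^ (k + 1)) x = Ideal.Quotient.mk _ (y + y') := by rw [hx, map_add, map_add, hy, hy']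
      have h2 := LinearMap.congr_fun (hann _ (Ideal.Quotient.eq.1 h1)) ((1 : S') ⊗ₜ[S] m)
      rw [map_sub, LinearMap.sub_apply, map_add, LinearMap.add_apply, hq y hy, hq' y' hy', add_zero, sub_zero,
        LinearMap.zero_apply] at h2
      exact h2
  refine LinearMap.ext fun t => ?_
  induction t using TensorProduct.induction_on with
  | zero => simp
  | tmul b m =>
    have h1 := key (σ b) ((1 : S') ⊗ₜ[R] b) (RingHom.congr_fun hfσ b).symm m
    rwa [phi_tmul, one_smul, TensorProduct.smul_tmul', smul_eq_mul, mul_one, LinearMap.sub_apply, sub_eq_zero] at h1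
  | add s t hs ht => rw [map_add, map_add, hs, ht]

/-- An operator of bounded order on `M` extends to `S' ⊗ M`. -/
theorem exists_extension (D : M →ₗ[R] N') (hD : Diff16.IsDiffOpLE R S M N' k D) :
    ∃ D' : S' ⊗[S] M →ₗ[R] N', Diff16.IsDiffOpLE R S' (S' ⊗[S] M) N' k D' ∧
      ∀ m : M, D' ((1 : S') ⊗ₜ[S] m) = D m := by
  obtain ⟨σ, hσ, hσJ⟩ := exists_sigma k R S S'
  let Φ0 : PP16.P k R S →+ (M →ₗ[R] N') :=
    QuotientAddGroup.lift _ (phi D).toAddMonoidHom (fun x hx => ord_iff_le_ann.1 hD hx)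
  have hΦ0 : ∀ x, Φ0 (Ideal.Quotient.mk _ x) = phi D x := fun _ => rfl
  have hleft : ∀ (s : S) (x : S ⊗[R] S) (m : M), phi D ((s ⊗ₜ[R] (1 : S)) * x) m = s • phi D x m := by
    intro s x m
    rw [← phi_phi, phi_tmul, one_smul]
  have hright : ∀ (s : S) (x : S ⊗[R] S) (m : M), phi D (((1 : S) ⊗ₜ[R] s) * x) m = phi D x (s • m) := by
    intro s x m
    rw [← phi_phi, phi_tmul, one_smul]
  let Φ : S' ⊗[S] PP16.P k R S →+ (M →ₗ[R] N') := TensorProduct.liftAddHom
    { toFun := fun a =>
        { toFun := fun p => a • Φ0 p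
          map_zero' := by simp
          map_add' := fun p q => by rw [map_add, smul_add] }
      map_zero' := by ext p; simp
      map_add' := fun a b => by ext p; simp [add_smul] }
    (fun s a p => by
      obtain ⟨x, rfl⟩ := Ideal.Quotient.mk_surjective p
      change (s • a) • Φ0 (Ideal.Quotient.mk _ x) = a • Φ0 (s • Ideal.Quotient.mk _ x)
      rw [show s • Ideal.Quotient.mk (KaehlerDifferential.ideal R S ^ (k + 1)) x =
        Ideal.Quotient.mk _ ((s ⊗ₜ[R] (1 : S)) * x) from
          (Algebra.smul_def s (Ideal.Quotient.mk (KaehlerDifferential.ideal R S ^ (k + 1)) x)).trans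
            (map_mul (Ideal.Quotient.mk (KaehlerDifferential.ideal R S ^ (k + 1))) (s ⊗ₜ[R] (1 : S)) x).symm,
        hΦ0, hΦ0]
      refine LinearMap.ext fun m => ?_
      rw [LinearMap.smul_apply, LinearMap.smul_apply, hleft, smul_assoc, smul_comm])
  have hΦ : ∀ a x, Φ (a ⊗ₜ[S] Ideal.Quotient.mk _ x) = a • phi D x := fun a x => rfl
  have hΦl : ∀ (a : S') (q : S' ⊗[S] PP16.P k R S), Φ (a ⊗ₜ[S] (1 : PP16.P k R S) * q) = a • Φ q := by
    intro a q
    induction q using TensorProduct.induction_on with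
    | zero => simp
    | tmul b p =>
      obtain ⟨x, rfl⟩ := Ideal.Quotient.mk_surjective p
      rw [Algebra.TensorProduct.tmul_mul_tmul, one_mul, hΦ, hΦ, mul_smul]
    | add q q' hq hq' => rw [mul_add, map_add, map_add, hq, hq', smul_add]
  have hΦr : ∀ (s : S) (q : S' ⊗[S] PP16.P k R S) (m : M),
      Φ ((1 : S') ⊗ₜ[S] PP16.dn k R S s * q) m = Φ q (s • m) := by
    intro s q m
    induction q using TensorProduct.induction_on with
    | zero => simp
    | tmul b p =>
      obtain ⟨x, rfl⟩ := Ideal.Quotient.mk_surjective p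
      rw [Algebra.TensorProduct.tmul_mul_tmul, one_mul,
        show PP16.dn k R S s * Ideal.Quotient.mk (KaehlerDifferential.ideal R S ^ (k + 1)) x =
          Ideal.Quotient.mk _ (((1 : S) ⊗ₜ[R] s) * x) from
            (map_mul (Ideal.Quotient.mk (KaehlerDifferential.ideal R S ^ (k + 1))) ((1 : S) ⊗ₜ[R] s) x).symm,
        hΦ, hΦ, LinearMap.smul_apply, LinearMap.smul_apply, hright]
    | add q q' hq hq' => rw [mul_add, map_add, map_add, LinearMap.add_apply, LinearMap.add_apply, hq, hq']
  let D₀ : S' ⊗[S] M →+ N' := TensorProduct.liftAddHom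
    { toFun := fun b => (Φ (σ b)).toAddMonoidHom
      map_zero' := by ext; simp
      map_add' := fun a b => by ext; simp }
    (fun s b m => by
      change Φ (σ (s • b)) m = Φ (σ b) (s • m)
      rw [Algebra.smul_def, map_mul, hσ, hΦr])
  have hσR : ∀ (r : R) (b : S'), σ (r • b) = algebraMap R S' r ⊗ₜ[S] (1 : PP16.P k R S) * σ b := by
    intro r b
    rw [Algebra.smul_def, map_mul, IsScalarTower.algebraMap_apply R S S', hσ, AlgHom.commutes]
    refine congrArg (· * σ b) ?_
    rw [IsScalarTower.algebraMap_apply R S (PP16.P k R S), Algebra.algebraMap_eq_smul_one (A := PP16.P k R S),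
      ← smul_tmul, ← Algebra.algebraMap_eq_smul_one]
  let D' : S' ⊗[S] M →ₗ[R] N' :=
    { toFun := D₀
      map_add' := map_add D₀
      map_smul' := fun r t => by
        induction t using TensorProduct.induction_on with
        | zero => simp
        | tmul b m =>
          rw [TensorProduct.smul_tmul', RingHom.id_apply]
          change Φ (σ (r • b)) m = r • Φ (σ b) m
          rw [hσR, hΦl, LinearMap.smul_apply, algebraMap_smul]
        | add s t hs ht => simp only [smul_add, map_add, hs, ht] }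
  have hD' : ∀ b m, D' (b ⊗ₜ[S] m) = Φ (σ b) m := fun b m => rfl
  refine ⟨D', ?_, fun m => ?_⟩
  · let ψ : S' ⊗[R] S' →ₐ[R] S' ⊗[S] PP16.P k R S :=
      Algebra.TensorProduct.lift (Algebra.TensorProduct.includeLeft : S' →ₐ[R] S' ⊗[S] PP16.P k R S)
        { σ with
          commutes' := fun r => by
            have h := hσR r 1
            rw [map_one, mul_one, ← Algebra.algebraMap_eq_smul_one] at h
            exact h }
        fun x y => Commute.all (Algebra.TensorProduct.includeLeft (R := S) (S := S) (A := S') (B := PP16.P k R S) x) (σ y)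
    have hψ : ∀ a c, ψ (a ⊗ₜ[R] c) = a ⊗ₜ[S] (1 : PP16.P k R S) * σ c := fun a c => by
      simp only [ψ, Algebra.TensorProduct.lift_tmul]
      rfl
    have key : ∀ (x : S' ⊗[R] S') (b : S') (m : M), phi D' x (b ⊗ₜ[S] m) = Φ (ψ x * σ b) m := by
      intro x b m
      induction x using TensorProduct.induction_on with
      | zero => simp
      | tmul a c =>
        rw [phi_tmul, TensorProduct.smul_tmul', smul_eq_mul, hD', hψ, mul_assoc, hΦl, map_mul, LinearMap.smul_apply]
      | add x y hx hy => rw [map_add, LinearMap.add_apply, hx, hy, map_add, add_mul, map_add, LinearMap.add_apply]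
    have hI : KaehlerDifferential.ideal R S' ≤ ((PP16.augIdeal k R S).map
        (Algebra.TensorProduct.includeRight : PP16.P k R S →ₐ[S] S' ⊗[S] PP16.P k R S).toRingHom).comap ψ := by
      rw [ideal_eq_span, Ideal.span_le]
      rintro _ ⟨b, rfl⟩
      change ψ (zeta R b) ∈ (PP16.augIdeal k R S).map
        (Algebra.TensorProduct.includeRight : PP16.P k R S →ₐ[S] S' ⊗[S] PP16.P k R S).toRingHom
      rw [zeta, map_sub, hψ, hψ, map_one, mul_one, show (1 : S') ⊗ₜ[S] (1 : PP16.P k R S) = 1 from rfl, one_mul]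
      exact hσJ b
    refine ord_iff_le_ann.2 fun x hx => mem_ann.2 (LinearMap.ext fun t => ?_)
    have hx0 : ψ x = 0 := apply_eq_zero_of_mem_pow ψ.toRingHom _ (PParts.augIdeal_pow k R S) hI hx
    induction t using TensorProduct.induction_on with
    | zero => simp
    | tmul b m => rw [key, hx0, zero_mul, map_zero, LinearMap.zero_apply, LinearMap.zero_apply]
    | add s t hs ht => rw [map_add, hs, ht, map_add]
  · rw [hD', map_one, show (1 : S' ⊗[S] PP16.P k R S) =
      (1 : S') ⊗ₜ[S] Ideal.Quotient.mk _ (1 : S ⊗[R] S) from rfl, hΦ, one_smul,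
      Algebra.TensorProduct.one_def, phi_tmul, one_smul, one_smul]

omit [Algebra.FormallyEtale S S'] in
/-- Post-composition with a linear map preserves the order. -/
theorem ord_linear_comp {M₁ N₁ P₁ : Type u} [AddCommGroup M₁] [Module S M₁] [Module R M₁] [IsScalarTower R S M₁]
    [AddCommGroup N₁] [Module S N₁] [Module R N₁] [IsScalarTower R S N₁]
    [AddCommGroup P₁] [Module S P₁] [Module R P₁] [IsScalarTower R S P₁] (f : N₁ →ₗ[S] P₁) :
    ∀ {n : ℕ} {D : M₁ →ₗ[R] N₁}, Diff16.IsDiffOpLE R S M₁ N₁ n D →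
      Diff16.IsDiffOpLE R S M₁ P₁ n (f.restrictScalars R ∘ₗ D)
  | 0, D, h => fun b m => by
    change f (D (b • m)) = b • f (D m)
    rw [h b m, map_smul]
  | n + 1, D, h => fun b => by
    have e : Diff16.commutator R S M₁ P₁ (f.restrictScalars R ∘ₗ D) b = f.restrictScalars R ∘ₗ Diff16.commutator R S M₁ N₁ D b := by
      refine LinearMap.ext fun m => ?_
      simp only [commutator_apply, LinearMap.comp_apply, LinearMap.restrictScalars_apply, map_sub, map_smul]
    rw [e]
    exact ord_linear_comp f (h b)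

omit [Algebra.FormallyEtale S S'] in
/-- Restricting an operator along a semilinear map preserves the order. -/
theorem ord_restrict {M₁ : Type u} [AddCommGroup M₁] [Module S M₁] [Module R M₁] [IsScalarTower R S M₁]
    {M₂ : Type u} [AddCommGroup M₂] [Module S' M₂] [Module R M₂] [IsScalarTower R S' M₂] [Module S M₂]
    [IsScalarTower S S' M₂] [IsScalarTower R S M₂] (j : M₁ →ₗ[S] M₂) :
    ∀ {n : ℕ} {E : M₂ →ₗ[R] N'}, Diff16.IsDiffOpLE R S' M₂ N' n E →
      Diff16.IsDiffOpLE R S M₁ N' n (E ∘ₗ j.restrictScalars R)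
  | 0, E, h => fun b m => by
    change E (j (b • m)) = b • E (j m)
    rw [map_smul, ← algebraMap_smul S' b, h, algebraMap_smul]
  | n + 1, E, h => fun b => by
    have e : Diff16.commutator R S M₁ N' (E ∘ₗ j.restrictScalars R) b =
        Diff16.commutator R S' M₂ N' E (algebraMap S S' b) ∘ₗ j.restrictScalars R := by
      refine LinearMap.ext fun m => ?_
      simp only [commutator_apply, LinearMap.comp_apply, LinearMap.restrictScalars_apply, map_smul, algebraMap_smul]
    rw [e]
    exact ord_restrict j (h (algebraMap S S' b))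

/-- The extension statement for a base change `j : M → M'`. -/
theorem existsUnique_extension {M' : Type u} [AddCommGroup M'] [Module S' M'] [Module R M'] [IsScalarTower R S' M']
    [Module S M'] [IsScalarTower S S' M'] [IsScalarTower R S M'] {j : M →ₗ[S] M'} (hj : IsBaseChange S' j)
    (D : M →ₗ[R] N') (hD : Diff16.IsDiffOpLE R S M N' k D) :
    ∃! D' : M' →ₗ[R] N', Diff16.IsDiffOpLE R S' M' N' k D' ∧ D' ∘ₗ j.restrictScalars R = D := by
  obtain ⟨D₁, hD₁, hD₁m⟩ := exists_extension k R S S' D hD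
  have he : ∀ m, hj.equiv ((1 : S') ⊗ₜ[S] m) = j m := fun m => by rw [IsBaseChange.equiv_tmul, one_smul]
  have hord : ∀ E : M' →ₗ[R] N', Diff16.IsDiffOpLE R S' M' N' k E →
      Diff16.IsDiffOpLE R S' (S' ⊗[S] M) N' k (E ∘ₗ hj.equiv.toLinearMap.restrictScalars R) :=
    fun E hE => ord_restrict (S := S') R S' hj.equiv.toLinearMap hE
  refine ⟨D₁ ∘ₗ hj.equiv.symm.toLinearMap.restrictScalars R, ⟨?_, LinearMap.ext fun m => ?_⟩, fun E hE => ?_⟩
  · exact ord_restrict (S := S') R S' hj.equiv.symm.toLinearMap hD₁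
  · change D₁ (hj.equiv.symm (j m)) = D m
    rw [IsBaseChange.equiv_symm_apply, hD₁m]
  · have := eq_of_comp_mk k R S S' (E ∘ₗ hj.equiv.toLinearMap.restrictScalars R) D₁ (hord E hE.1) hD₁
      (fun m => by
        change E (hj.equiv ((1 : S') ⊗ₜ[S] m)) = _
        rw [he, hD₁m, ← hE.2]
        rfl)
    refine LinearMap.ext fun t => ?_
    rw [← this]
    change E t = E (hj.equiv (hj.equiv.symm t))
    rw [LinearEquiv.apply_symm_apply]

end Etale

end Groth.Agent.DiffOp
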