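import Groth.Agent.DiffOp.Basic
import Mathlib.RingTheory.MvPolynomial.Ideal
import Mathlib.RingTheory.Smooth.Basic

/-! Truncated Taylor expansions in coordinates, and divided power operators. -/

universe u

namespace Groth.Agent.DiffOp

open Diff16 MvPolynomial TensorProduct

variable {A B : Type u} [CommRing A] [CommRing B] [Algebra A B] {ι : Type*} [Fintype ι] [DecidableEq ι]

/-- Polynomials in `ι` over `B`, truncated above degree `m`. -/
abbrev Trunc (ι : Type*) (B : Type*) [CommRing B] (m : ℕ) :=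
  MvPolynomial ι B ⧸ idealOfVars ι B ^ (m + 1)

/-- The quotient map. -/
noncomputable abbrev tmk (ι : Type*) (B : Type*) [CommRing B] (m : ℕ) : MvPolynomial ι B →+* Trunc ι B m :=
  Ideal.Quotient.mk _

/-- A truncated Taylor expansion in the coordinates `z`. -/
structure IsTaylor (z : ι → B) (m : ℕ) (φ : B →ₐ[A] Trunc ι B m) : Prop where
  const : ∀ b, φ b - algebraMap B (Trunc ι B m) b ∈ (idealOfVars ι B).map (tmk ι B m)
  gen : ∀ i, φ (z i) = tmk ι B m (C (z i) + X i)

theorem tmk_mem_map {m : ℕ} {p : MvPolynomial ι B} :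
    tmk ι B m p ∈ (idealOfVars ι B).map (tmk ι B m) ↔ p ∈ idealOfVars ι B :=
  Ideal.mem_quotient_iff_mem (Ideal.pow_le_self (Nat.succ_ne_zero m))

theorem isNilpotent_of_mul_eq_zero {R : Type*} [CommRing R] (K : Ideal R)
    (h : ∀ x ∈ K, ∀ y ∈ K, x * y = 0) : IsNilpotent K := by
  refine ⟨2, le_bot_iff.1 ?_⟩
  rw [sq, Ideal.mul_le]
  exact fun x hx y hy => Ideal.mem_bot.2 (h x hx y hy)

theorem exists_isTaylor [Algebra.FormallySmooth A B] {z : ι → B}
    (hz : ∃ b : Module.Basis ι B (KaehlerDifferential A B), ∀ i, b i = KaehlerDifferential.D A B (z i)) :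
    ∀ m, ∃ φ : B →ₐ[A] Trunc ι B m, IsTaylor z m φ := by
  obtain ⟨bas, hbas⟩ := hz
  intro m
  induction m with
  | zero =>
    refine ⟨IsScalarTower.toAlgHom A B _, fun b => ?_, fun i => ?_⟩
    · simp
    · change tmk ι B 0 (C (z i)) = tmk ι B 0 (C (z i) + X i)
      rw [Ideal.Quotient.eq, zero_add, pow_one, sub_add_cancel_left, neg_mem_iff]
      exact Ideal.subset_span ⟨i, rfl⟩
  | succ m ih =>
    obtain ⟨φ, hφ⟩ := ih
    let f : Trunc ι B (m + 1) →ₐ[B] Trunc ι B m :=
      Ideal.Quotient.liftₐ _ (Ideal.Quotient.mkₐ B _) fun p hp => by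
        rw [Ideal.Quotient.mkₐ_eq_mk, Ideal.Quotient.eq_zero_iff_mem]
        exact Ideal.pow_le_pow_right (by omega) hp
    have hfmk : ∀ p, f (tmk ι B (m + 1) p) = tmk ι B m p := fun p => rfl
    have hker : ∀ x, f x = 0 → ∃ p ∈ idealOfVars ι B ^ (m + 1), tmk ι B (m + 1) p = x := by
      intro x hx
      obtain ⟨p, rfl⟩ := Ideal.Quotient.mk_surjective x
      exact ⟨p, Ideal.Quotient.eq_zero_iff_mem.1 hx, rfl⟩
    have hprod : ∀ x y, x ∈ (idealOfVars ι B).map (tmk ι B (m + 1)) → f y = 0 → x * y = 0 := by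
      intro x y hx hy
      obtain ⟨p, hp, rfl⟩ := (Ideal.mem_map_iff_of_surjective _ Ideal.Quotient.mk_surjective).1 hx
      obtain ⟨q, hq, rfl⟩ := hker y hy
      rw [← map_mul, Ideal.Quotient.eq_zero_iff_mem, pow_succ']
      exact Ideal.mul_mem_mul hp hq
    have hsurj : Function.Surjective (f.restrictScalars A) := fun x => by
      obtain ⟨p, rfl⟩ := Ideal.Quotient.mk_surjective x
      exact ⟨tmk ι B (m + 1) p, rfl⟩
    have hker' : ∀ y, f y = 0 → y ∈ (idealOfVars ι B).map (tmk ι B (m + 1)) := fun y hy => by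
      obtain ⟨q, hq, rfl⟩ := hker y hy
      exact Ideal.mem_map_of_mem _ (Ideal.pow_le_self (Nat.succ_ne_zero m) hq)
    have hnil : IsNilpotent (RingHom.ker ((f.restrictScalars A) : Trunc ι B (m + 1) →+* Trunc ι B m)) := by
      exact isNilpotent_of_mul_eq_zero _ fun x hx y hy => hprod x y (hker' x hx) hy
    let l := Algebra.FormallySmooth.liftOfSurjective φ (f.restrictScalars A) hsurj hnil
    have hl : ∀ b, f (l b) = φ b :=
      fun b => Algebra.FormallySmooth.liftOfSurjective_apply φ (f.restrictScalars A) hsurj hnil b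
    have hlc : ∀ b, l b - algebraMap B _ b ∈ (idealOfVars ι B).map (tmk ι B (m + 1)) := by
      intro b
      obtain ⟨p, hp⟩ := Ideal.Quotient.mk_surjective (l b - algebraMap B _ b)
      rw [← hp]
      apply tmk_mem_map.2
      rw [← tmk_mem_map (m := m), ← hfmk, show tmk ι B (m + 1) p = _ from hp, map_sub, hl, f.commutes]
      exact hφ.const b
    let K : Submodule B (Trunc ι B (m + 1)) := LinearMap.ker f.toLinearMap
    have hk : ∀ i, tmk ι B (m + 1) (C (z i) + X i) - l (z i) ∈ K := fun i => by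
      change f _ = 0
      rw [map_sub, hfmk, hl, hφ.gen, sub_self]
    let lin : KaehlerDifferential A B →ₗ[B] Trunc ι B (m + 1) :=
      bas.constr B fun i => tmk ι B (m + 1) (C (z i) + X i) - l (z i)
    let δ : Derivation A B (Trunc ι B (m + 1)) := lin.compDer (KaehlerDifferential.D A B)
    have hδK : ∀ b, f (δ b) = 0 := fun b => by
      have : δ b ∈ K := by
        change lin (KaehlerDifferential.D A B b) ∈ K
        have hr : LinearMap.range lin ≤ K := by
          rw [Module.Basis.constr_range, Submodule.span_le]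
          rintro _ ⟨i, rfl⟩
          exact hk i
        exact hr ⟨_, rfl⟩
      exact this
    have hmul : ∀ b c, l b * δ c = b • δ c := by
      intro b c
      refine Eq.trans ?_ (Algebra.smul_def b (δ c)).symm
      rw [← sub_eq_zero, ← sub_mul]
      exact hprod _ _ (hlc b) (hδK c)
    let φ' : B →ₐ[A] Trunc ι B (m + 1) := AlgHom.ofLinearMap (l.toLinearMap + δ.toLinearMap)
      (by simp [δ.map_one_eq_zero])
      (fun b c => by
        simp only [LinearMap.add_apply, AlgHom.toLinearMap_apply, Derivation.coeFn_coe, map_mul, δ.leibniz]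
        have h0 : δ b * δ c = 0 := hprod _ _ (hker' _ (hδK b)) (hδK c)
        rw [← hmul b c, ← hmul c b, mul_add, add_mul, add_mul, h0, add_zero, mul_comm (δ b) (l c)]
        abel)
    have hφ' : ∀ b, φ' b = l b + δ b := fun b => rfl
    refine ⟨φ', fun b => ?_, fun i => ?_⟩
    · rw [hφ', add_sub_right_comm]
      exact add_mem (hlc b) (hker' _ (hδK b))
    · rw [hφ']
      change l (z i) + lin (KaehlerDifferential.D A B (z i)) = _
      rw [← hbas, Module.Basis.constr_basis]
      abel

/-- The coefficient of degree `p` on truncated polynomials. -/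
noncomputable def tcoeff (m : ℕ) (p : ι →₀ ℕ) (hp : Finsupp.degree p ≤ m) : Trunc ι B m →ₗ[B] B :=
  Submodule.liftQ ((idealOfVars ι B ^ (m + 1)).restrictScalars B) (lcoeff B p) (fun x hx => by
    rw [LinearMap.mem_ker, lcoeff_apply]
    exact (mem_pow_idealOfVars_iff' _ _).1 hx p (by omega))

theorem tcoeff_tmk {m : ℕ} {p : ι →₀ ℕ} (hp : Finsupp.degree p ≤ m) (q : MvPolynomial ι B) :
    tcoeff m p hp (tmk ι B m q) = coeff p q := rfl

theorem degree_le_of_antidiagonal {p : ι →₀ ℕ} {x : (ι →₀ ℕ) × (ι →₀ ℕ)}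
    (hx : x ∈ Finset.antidiagonal p) : Finsupp.degree x.1 + Finsupp.degree x.2 = Finsupp.degree p := by
  rw [← map_add, Finset.mem_antidiagonal.1 hx]

/-- The coefficients of a Taylor expansion are differential operators. -/
theorem ord_tcoeff {z : ι → B} {m : ℕ} {φ : B →ₐ[A] Trunc ι B m} (hφ : IsTaylor z m φ) :
    ∀ (d : ℕ) (p : ι →₀ ℕ) (hd : Finsupp.degree p ≤ d) (hp : Finsupp.degree p ≤ m),
      IsDiffOpLE A B B B d ((tcoeff m p hp).restrictScalars A ∘ₗ φ.toLinearMap) := by
  classical
  have hzero : ∀ h b, tcoeff (ι := ι) m 0 h (φ b) = b := by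
    intro h b
    obtain ⟨q, hq⟩ := Ideal.Quotient.mk_surjective (φ b - algebraMap B _ b)
    have hmem : q ∈ idealOfVars ι B := tmk_mem_map.1 (hq ▸ hφ.const b)
    have h0 : coeff 0 q = 0 := by
      rw [← pow_one (idealOfVars ι B), mem_pow_idealOfVars_iff'] at hmem
      exact hmem 0 (by simp)
    have e : φ b = tmk ι B m (q + C b) := by
      rw [map_add, show tmk ι B m q = _ from hq, show tmk ι B m (C b) = algebraMap B (Trunc ι B m) b from rfl,
        sub_add_cancel]
    rw [e, tcoeff_tmk, coeff_add, h0, coeff_C, if_pos rfl, zero_add]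
  intro d
  induction d with
  | zero =>
    intro p hd hp b t
    have : p = 0 := (Finsupp.degree_eq_zero_iff p).1 (Nat.le_zero.1 hd)
    subst this
    simp only [LinearMap.comp_apply, LinearMap.restrictScalars_apply, AlgHom.toLinearMap_apply, hzero, smul_eq_mul]
  | succ d ih =>
    intro p hd hp b
    let E : ((ι →₀ ℕ) × (ι →₀ ℕ)) → (B →ₗ[A] B) := fun x =>
      if hx : Finsupp.degree x.1 + Finsupp.degree x.2 = Finsupp.degree p ∧ x.1 ≠ 0 then
        (tcoeff m x.1 (by omega) (φ b)) • ((tcoeff m x.2 (by omega)).restrictScalars A ∘ₗ φ.toLinearMap)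
      else 0
    have hcomm : commutator A B B B ((tcoeff m p hp).restrictScalars A ∘ₗ φ.toLinearMap) b =
        ∑ x ∈ Finset.antidiagonal p, E x := by
      ext t
      obtain ⟨q₁, h₁⟩ := Ideal.Quotient.mk_surjective (φ b)
      obtain ⟨q₂, h₂⟩ := Ideal.Quotient.mk_surjective (φ t)
      have hmem : ((0 : ι →₀ ℕ), p) ∈ Finset.antidiagonal p := by simp
      rw [commutator_apply, LinearMap.sum_apply]
      simp only [LinearMap.comp_apply, LinearMap.restrictScalars_apply, AlgHom.toLinearMap_apply, smul_eq_mul, map_mul]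
      rw [← h₁, ← h₂, ← map_mul, tcoeff_tmk, tcoeff_tmk, coeff_mul]
      have hb : coeff 0 q₁ = b := by
        have := hzero (by simp) b
        rwa [← h₁, tcoeff_tmk] at this
      rw [← hb, ← Finset.add_sum_erase _ _ hmem, ← Finset.add_sum_erase _ (fun x => E x t) hmem]
      rw [show E ((0 : ι →₀ ℕ), p) = 0 from dif_neg (fun h => h.2 rfl), LinearMap.zero_apply, zero_add,
        add_sub_cancel_left]
      refine Finset.sum_congr rfl fun x hx => ?_
      rw [Finset.mem_erase] at hx
      have hne : x.1 ≠ 0 := fun h => hx.1 (by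
        have h' := Finset.mem_antidiagonal.1 hx.2
        rw [h, zero_add] at h'
        exact Prod.ext h h')
      simp only [E]
      rw [dif_pos (show Finsupp.degree x.1 + Finsupp.degree x.2 = Finsupp.degree p ∧ x.1 ≠ 0 from
        ⟨degree_le_of_antidiagonal hx.2, hne⟩)]
      simp only [LinearMap.smul_apply, LinearMap.comp_apply, LinearMap.restrictScalars_apply,
        AlgHom.toLinearMap_apply, smul_eq_mul]
      rw [← h₁, ← h₂, tcoeff_tmk, tcoeff_tmk]
    rw [hcomm]
    refine ord_sum _ fun x _ => ?_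
    simp only [E]
    split
    · next hx =>
      refine ord_smul _ (ih x.2 ?_ _)
      have : Finsupp.degree x.1 ≠ 0 := fun e => hx.2 ((Finsupp.degree_eq_zero_iff _).1 e)
      omega
    · exact ord_zero d

theorem coeff_prod_C_add_X (z : ι → B) (p q : ι → ℕ) :
    coeff (Finsupp.equivFunOnFinite.symm p) (∏ i, (C (z i) + X i) ^ q i) =
      ((∏ i, Nat.choose (q i) (p i) : ℕ) : B) * ∏ i, z i ^ (q i - p i) := by
  classical
  have hexp : ∀ i, (C (z i) + X i : MvPolynomial ι B) ^ q i = ∑ k ∈ Finset.range (q i + 1),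
      monomial (Finsupp.single i k) (((q i).choose k : B) * z i ^ (q i - k)) := by
    intro i
    rw [add_comm, add_pow]
    refine Finset.sum_congr rfl fun k _ => ?_
    rw [X_pow_eq_monomial, ← C_pow, ← map_natCast (C : B →+* MvPolynomial ι B), mul_assoc, ← map_mul,
      mul_comm, C_mul_monomial, mul_one, mul_comm]
  have hmon : ∀ (c : ι → B) (k : ι → ℕ), ∏ i, monomial (Finsupp.single i (k i)) (c i) =
      monomial (Finsupp.equivFunOnFinite.symm k) (∏ i, c i) := by
    intro c k
    have : ∀ s : Finset ι, ∏ i ∈ s, monomial (Finsupp.single i (k i)) (c i) =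
        monomial (∑ i ∈ s, Finsupp.single i (k i)) (∏ i ∈ s, c i) := by
      intro s
      induction s using Finset.induction_on with
      | empty => simp
      | insert a s ha ih => rw [Finset.prod_insert ha, ih, monomial_mul, Finset.sum_insert ha, Finset.prod_insert ha]
    rw [this]
    congr 1
    exact congrArg (fun d => monomial d) (by ext i; simp [Finsupp.single_apply])
  simp only [hexp, Finset.prod_univ_sum, hmon, coeff_sum, coeff_monomial]
  rw [Finset.sum_eq_single p (fun k _ hk => if_neg fun e => hk (Finsupp.equivFunOnFinite.symm.injective e))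
    (fun hp => ?_)]
  · rw [if_pos rfl, Nat.cast_prod, ← Finset.prod_mul_distrib]
  · obtain ⟨i, hi⟩ : ∃ i, q i < p i := by
      by_contra h
      push Not at h
      exact hp (Fintype.mem_piFinset.2 fun i => Finset.mem_range.2 (Nat.lt_succ_of_le (h i)))
    rw [if_pos rfl, Finset.prod_eq_zero (Finset.mem_univ i)]
    rw [Nat.choose_eq_zero_of_lt hi, Nat.cast_zero, zero_mul]

theorem degree_equivFun (p : ι → ℕ) :
    Finsupp.degree (Finsupp.equivFunOnFinite.symm p) = ∑ i, p i := by
  simp [Finsupp.degree_eq_sum]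

/-- Existence and uniqueness of the divided power operators of a system of coordinates. -/
theorem existsUnique_dividedPower [Algebra.FormallySmooth A B] {z : ι → B}
    (hz : ∃ b : Module.Basis ι B (KaehlerDifferential A B), ∀ i, b i = KaehlerDifferential.D A B (z i)) :
    ∃! Dp : (ι → ℕ) → (B →ₗ[A] B),
      (∀ p, IsDiffOpLE A B B B (∑ i, p i) (Dp p)) ∧
      (∀ p q : ι → ℕ, Dp p (∏ i, z i ^ q i) =
        ((∏ i, Nat.choose (q i) (p i) : ℕ) : B) * ∏ i, z i ^ (q i - p i)) := by
  have hT := exists_isTaylor hz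
  choose φ hφ using hT
  let Dp : (ι → ℕ) → (B →ₗ[A] B) := fun p =>
    (tcoeff (∑ i, p i) (Finsupp.equivFunOnFinite.symm p) (degree_equivFun p).le).restrictScalars A ∘ₗ
      (φ (∑ i, p i)).toLinearMap
  have hval : ∀ p q : ι → ℕ, Dp p (∏ i, z i ^ q i) =
      ((∏ i, Nat.choose (q i) (p i) : ℕ) : B) * ∏ i, z i ^ (q i - p i) := by
    intro p q
    simp only [Dp, LinearMap.comp_apply, LinearMap.restrictScalars_apply, AlgHom.toLinearMap_apply, map_prod,
      map_pow, (hφ _).gen]
    rw [← coeff_prod_C_add_X, ← tcoeff_tmk (degree_equivFun p).le]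
    simp
  have hord : ∀ p, IsDiffOpLE A B B B (∑ i, p i) (Dp p) :=
    fun p => ord_tcoeff (hφ _) _ _ (degree_equivFun p).le _
  refine ⟨Dp, ⟨hord, hval⟩, fun D' hD' => funext fun p => ?_⟩
  obtain ⟨bas, hb⟩ := hz
  refine eq_of_monomials ?_ (hD'.1 p) (hord p) fun q _ => by rw [hD'.2, hval]
  rw [← bas.span_eq]
  exact congrArg _ (congrArg Set.range (funext fun i => (hb i).symm))

end Groth.Agent.DiffOp
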